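import Cfsg.Agent.H35.T1687.PTab

set_option autoImplicit false
set_option linter.all false

namespace Cfsg.Agent.H35

theorem t1687_pchk_4 : allR t1687_pf 3510 8 (4 * 2 ^ 8) = true := by decide +kernel
theorem t1687_pchk_5 : allR t1687_pf 3510 8 (5 * 2 ^ 8) = true := by decide +kernel
theorem t1687_pchk_6 : allR t1687_pf 3510 8 (6 * 2 ^ 8) = true := by decide +kernel
theorem t1687_pchk_7 : allR t1687_pf 3510 8 (7 * 2 ^ 8) = true := by decide +kernel

end Cfsg.Agent.H35
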