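import Cfsg.Agent.H35.T1687.PTab

set_option autoImplicit false
set_option linter.all false

namespace Cfsg.Agent.H35

theorem t1687_pchk_8 : allR t1687_pf 3510 8 (8 * 2 ^ 8) = true := by decide +kernel
theorem t1687_pchk_9 : allR t1687_pf 3510 8 (9 * 2 ^ 8) = true := by decide +kernel
theorem t1687_pchk_10 : allR t1687_pf 3510 8 (10 * 2 ^ 8) = true := by decide +kernel
theorem t1687_pchk_11 : allR t1687_pf 3510 8 (11 * 2 ^ 8) = true := by decide +kernel

end Cfsg.Agent.H35
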