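import Cfsg.Agent.H35.T1687.PChk0
import Cfsg.Agent.H35.T1687.PChk1
import Cfsg.Agent.H35.T1687.PChk2
import Cfsg.Agent.H35.T1687.PChk3

set_option autoImplicit false
set_option linter.all false

namespace Cfsg.Agent.H35

theorem t1687_pall : ∀ p, p < 3510 → t1687_pf p = true := by
  apply allR_blocks t1687_pf 3510 8 14 _ (by decide)
  intro k hk
  interval_cases k
  · exact t1687_pchk_0
  · exact t1687_pchk_1
  · exact t1687_pchk_2
  · exact t1687_pchk_3
  · exact t1687_pchk_4
  · exact t1687_pchk_5
  · exact t1687_pchk_6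
  · exact t1687_pchk_7
  · exact t1687_pchk_8
  · exact t1687_pchk_9
  · exact t1687_pchk_10
  · exact t1687_pchk_11
  · exact t1687_pchk_12
  · exact t1687_pchk_13

theorem t1687_psub : t1687_pd.subOK t1687_sw = true := by decide +kernel

end Cfsg.Agent.H35
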