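import Cfsg.Agent.H35.T1687.RChk0
import Cfsg.Agent.H35.T1687.RChk1

set_option autoImplicit false
set_option linter.all false

namespace Cfsg.Agent.H35

theorem t1687_rall : ∀ p, p < 3523 → t1687_rf p = true := by
  apply allR_blocks t1687_rf 3523 10 4 _ (by decide)
  intro k hk
  interval_cases k
  · exact t1687_rchk_0
  · exact t1687_rchk_1
  · exact t1687_rchk_2
  · exact t1687_rchk_3

theorem t1687_circ_ok : circChk (fullW fi22_rws fi22_prels) t1687_circT 0 t1687_ccert = true := by decide +kernel
theorem t1687_hc_ok : allR (fun c => hcChk t1687_rsw t1687_hc1T t1687_hc2T c) 9 4 0 = true := by decide +kernel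
theorem t1687_h0 : RData.aord (t1687_rd.ent 0 1) = 0 := by decide +kernel

end Cfsg.Agent.H35
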